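import Groth.Agent.Lib.KoszulFibre4.Fibre
import Groth.Agent.Lib.FlatDepth.Depth
import Groth.Agent.Lib.CMSlice4.Main
import Mathlib

/-!
# Fibrewise regular sequences: spreading out and base change
-/

set_option autoImplicit false
set_option linter.style.haveILetI false
universe u

open TensorProduct RingTheory.Sequence
open scoped Pointwise

namespace Groth.Agent.Slice4

/-- A regular sequence all of whose partial quotients are flat stays regular after base change. -/
theorem isWeaklyRegular_pushout {R R' G G' : Type u} [CommRing R] [CommRing R'] [CommRing G] [CommRing G']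
    [Algebra R R'] [Algebra R G] [Algebra R G'] [Algebra G G'] [Algebra R' G'] [IsScalarTower R G G']
    [IsScalarTower R R' G'] [hP : Algebra.IsPushout R R' G G'] (l : List G)
    (hfl : ∀ j ≤ l.length, Module.Flat R (G ⧸ Ideal.ofList (l.take j))) (h : IsWeaklyRegular G l) :
    IsWeaklyRegular G' (l.map (algebraMap G G')) := by
  haveI := hP.symm
  rw [isWeaklyRegular_map_algebraMap_iff]
  refine (LinearEquiv.isWeaklyRegular_congr ((Algebra.IsPushout.equiv R G R' G').toLinearEquiv) l).1 ⟨fun i hi => ?_⟩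
  let I := Ideal.ofList (l.take i)
  let e : (G ⧸ I) ⊗[R] R' ≃ₗ[G] (G ⊗[R] R') ⧸ (I • (⊤ : Submodule G (G ⊗[R] R'))) :=
    (AlgebraTensorModule.cancelBaseChange R G G (G ⧸ I) R').symm ≪≫ₗ quotTensorEquivQuotSMul (G ⊗[R] R') I
  refine (e.isSMulRegular_congr l[i]).1 ?_
  have hreg : IsSMulRegular (G ⧸ I) l[i] := (EmbDef.regular_iff_ideal _ _).2
    ((EmbDef.isWeaklyRegular_self_iff l).1 h i hi)
  let mk2 : G →ₗ[G] QuotSMulTop l[i] (G ⧸ I) := (l[i] • (⊤ : Submodule G (G ⧸ I))).mkQ ∘ₗ I.mkQ
  have hsurj : Function.Surjective mk2 := (Submodule.mkQ_surjective _).comp (Submodule.mkQ_surjective _)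
  have hker : LinearMap.ker mk2 = Ideal.ofList (l.take (i + 1)) := by
    rw [← List.take_concat_get' l i hi, Ideal.ofList_append, Ideal.ofList_singleton]
    rw [LinearMap.ker_comp, Submodule.ker_mkQ]
    ext a
    rw [Submodule.mem_comap, Submodule.mem_smul_pointwise_iff_exists, Submodule.mem_sup]
    constructor
    · rintro ⟨b, -, hb⟩
      obtain ⟨b, rfl⟩ := Submodule.mkQ_surjective _ b
      rw [← map_smul, Submodule.mkQ_apply, Submodule.mkQ_apply, Submodule.Quotient.eq] at hb
      exact ⟨a - l[i] * b, by simpa using I.neg_mem hb, l[i] * b, Ideal.mem_span_singleton.2 (dvd_mul_right _ _), by ring⟩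
    · rintro ⟨y, hy, z, hz, rfl⟩
      obtain ⟨b, rfl⟩ := Ideal.mem_span_singleton.1 hz
      refine ⟨I.mkQ b, trivial, ?_⟩
      rw [map_add, ← map_smul, smul_eq_mul, show I.mkQ y = 0 from (Submodule.Quotient.mk_eq_zero I).2 hy, zero_add]
  haveI : Module.Flat R (QuotSMulTop l[i] (G ⧸ I)) := by
    haveI := hfl (i + 1) hi
    exact Module.Flat.of_linearEquiv
      (((Submodule.quotEquivOfEq _ _ hker.symm).trans (mk2.quotKerEquivOfSurjective hsurj)).symm.restrictScalars R)
  exact FlatDepth.isSMulRegular_tensor_of_flat_quot hreg R'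

variable {R A : Type u} [CommRing R] [CommRing A] [Algebra R A] [Algebra.FinitePresentation R A]
  [Module.Flat R A] (q : Ideal A) [q.IsPrime]

omit [Algebra.FinitePresentation R A] [Module.Flat R A] in
/-- Regularity in the local ring of the fibre, cleared of denominators. -/
theorem fibReg_of_isWeaklyRegular (St : Type u) [CommRing St] [Algebra A St] [IsLocalization.AtPrime St q]
    (fs : List A)
    (h : IsWeaklyRegular (St ⧸ ((q.comap (algebraMap R A)).map (algebraMap R A)).map (algebraMap A St))
      (fs.map ((Ideal.Quotient.mk (((q.comap (algebraMap R A)).map (algebraMap R A)).map (algebraMap A St))).comp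
        (algebraMap A St)))) :
    KoszulFibre4.FibReg q R fs := by
  let pA := (q.comap (algebraMap R A)).map (algebraMap R A)
  let N := pA.map (algebraMap A St)
  let τ : A →+* St ⧸ N := (Ideal.Quotient.mk N).comp (algebraMap A St)
  have hclear : ∀ (x : A) (K : Ideal A), τ x ∈ K.map τ ↔ ∃ s ∉ q, s * x ∈ pA ⊔ K := by
    intro x K
    show Ideal.Quotient.mk N (algebraMap A St x) ∈ _ ↔ _
    rw [show K.map τ = (K.map (algebraMap A St)).map (Ideal.Quotient.mk N) from (Ideal.map_map _ _).symm,
      Ideal.mem_quotient_iff_mem_sup, show N = pA.map (algebraMap A St) from rfl, ← Ideal.map_sup,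
      CI2.mem_map_localization q.primeCompl, sup_comm]
    rfl
  intro j hj b t ht hmem
  have h1 := (EmbDef.isWeaklyRegular_self_iff _).mp h j (by simpa using hj) (τ (t * b)) (by
    rw [List.getElem_map, ← List.map_take, ← Ideal.map_ofList, ← map_mul]
    exact (hclear _ _).2 ⟨1, (Ideal.ne_top_iff_one q).mp (Ideal.IsPrime.ne_top inferInstance), by
      rw [one_mul]; convert hmem using 1; ring⟩)
  rw [← List.map_take, ← Ideal.map_ofList, hclear] at h1
  obtain ⟨s, hs, hsx⟩ := h1
  exact ⟨s * t, fun h => (Ideal.IsPrime.mem_or_mem inferInstance h).elim hs ht, by rwa [mul_assoc]⟩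

/-- Near `q` a fibrewise regular sequence is regular with flat partial quotients. -/
theorem exists_regular_flat_away (fs : List A) (hq : Ideal.ofList fs ≤ q) (h : KoszulFibre4.FibReg q R fs) :
    ∃ g ∉ q, ∀ g' : A, g ∣ g' → ∀ (B : Type u) [CommRing B] [Algebra A B] [Algebra R B] [IsScalarTower R A B]
      [IsLocalization.Away g' B], IsWeaklyRegular B (fs.map (algebraMap A B)) ∧
        ∀ j ≤ fs.length, Module.Flat R (B ⧸ Ideal.ofList ((fs.map (algebraMap A B)).take j)) := by
  classical
  obtain ⟨g₀, hg₀, hwr⟩ := KoszulFibre4.exists_isWeaklyRegular_away q fs hq h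
  have hloc : ∀ j : Fin (fs.length + 1), ∃ s ∉ q, ∀ g' : A, s ∣ g' → ∀ (B : Type u) [CommRing B] [Algebra A B]
      [Algebra R B] [IsScalarTower R A B] [IsLocalization.Away g' B],
      Module.Flat R (B ⧸ (Ideal.ofList (fs.take j)).map (algebraMap A B)) := by
    intro j
    let I := Ideal.ofList (fs.take j)
    let C := A ⧸ I
    let mk := Ideal.Quotient.mk I
    have hIq : I ≤ q := le_trans (Ideal.span_mono fun x hx => List.take_subset _ fs hx) hq
    let Q := q.map mk
    haveI : Q.IsPrime := Ideal.map_isPrime_of_surjective Ideal.Quotient.mk_surjective (by rwa [Ideal.mk_ker])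
    have hQ : Q.comap mk = q := by
      rw [Ideal.comap_map_of_surjective mk Ideal.Quotient.mk_surjective, ← RingHom.ker_eq_comap_bot, Ideal.mk_ker,
        sup_eq_left.mpr hIq]
    have hmemQ : ∀ z, mk z ∈ Q ↔ z ∈ q := fun z => by rw [← Ideal.mem_comap, hQ]
    haveI : Algebra.FinitePresentation R C := Algebra.FinitePresentation.quotient
      ⟨((fs.take j).finite_toSet).toFinset, by simp [I]⟩
    have hflatQ : Module.Flat R (LocalizedModule Q.primeCompl C) := by
      refine (FlatH4.flat_localized_iff Q).mpr fun J x hx => ?_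
      obtain ⟨s, hs, hsx⟩ := (KoszulFibre4.spread_step q fs hq h j (Nat.lt_succ_iff.1 j.2)).2 J x hx
      exact ⟨mk s, fun h => hs ((hmemQ s).mp h), by rwa [show mk s = algebraMap A C s from rfl, algebraMap_smul]⟩
    obtain ⟨_, ⟨h₁, rfl⟩, hh₁, hh₁flat⟩ := PrimeSpectrum.isTopologicalBasis_basic_opens.isOpen_iff.1
      (FlatH4.isOpen_flat_localized (R := R) (S := C) (M := C)) ⟨Q, inferInstance⟩ hflatQ
    obtain ⟨h₁, rfl⟩ := Ideal.Quotient.mk_surjective h₁
    refine ⟨h₁, fun h' => hh₁ ((hmemQ _).2 h'), fun g' hg' B _ _ _ _ _ => ?_⟩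
    haveI : IsLocalizedModule (Submonoid.powers g') (CI2.quotLoc (L := B) I) := CI2.isLocalizedModule_quotLoc _ I
    have hflat := CMSlice4.flat_away_of_forall (R := R) (mk g') fun P hP => hh₁flat fun h => hP
      (Ideal.mem_of_dvd _ (map_dvd mk hg') h)
    let ρ : (A ⧸ I) →ₗ[A] Localization.Away (mk g') := (IsScalarTower.toAlgHom A C _).toLinearMap
    haveI : IsLocalizedModule (Submonoid.powers g') ρ := by
      rw [isLocalizedModule_iff_isLocalization]
      show IsLocalization ((Submonoid.powers g').map (algebraMap A C)) _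
      rw [Submonoid.map_powers]
      exact Localization.isLocalization
    exact Module.Flat.of_linearEquiv ((IsLocalizedModule.linearEquiv (Submonoid.powers g') ρ
      (CI2.quotLoc (L := B) I)).symm.restrictScalars R)
  choose s hs hsflat using hloc
  refine ⟨g₀ * ∏ j, s j, fun hm => (Ideal.IsPrime.mem_or_mem inferInstance hm).elim hg₀ fun hm => ?_,
    fun g' hg' B _ _ _ _ _ => ⟨?_, fun j hj => ?_⟩⟩
  · obtain ⟨j, -, hj⟩ := (inferInstance : q.IsPrime).prod_mem_iff.mp hm
    exact hs j hj
  · let e : Localization.Away g' ≃ₐ[A] B := IsLocalization.algEquiv (Submonoid.powers g') _ B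
    have := (LinearEquiv.isWeaklyRegular_congr e.toLinearEquiv fs).1
      ((isWeaklyRegular_map_algebraMap_iff _ _ _).1 (hwr g' ((dvd_mul_right _ _).trans hg')))
    exact (isWeaklyRegular_map_algebraMap_iff _ _ _).2 this
  · rw [← List.map_take, ← Ideal.map_ofList]
    exact hsflat ⟨j, Nat.lt_succ_iff.2 hj⟩ g'
      (((Finset.dvd_prod_of_mem s (Finset.mem_univ _)).trans (dvd_mul_left _ _)).trans hg') B

end Groth.Agent.Slice4
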