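import Groth.Agent.Lib.Slice4.Regular
import Groth.Agent.Lib.FlatH4.PullChart
import Groth.Agent.Lib.CI2.RImmBC
import Groth.Prelude.Def_Mor2
import Mathlib

/-!
# Slices cut out by fibrewise regular sequences
-/

set_option autoImplicit false
set_option linter.style.haveILetI false
universe u

open CategoryTheory CategoryTheory.Limits AlgebraicGeometry RingTheory.Sequence

namespace Groth.Agent.Slice4

/-- A list of germs is the list of germs of sections on an affine neighbourhood. -/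
theorem exists_lift_germs {X : Scheme.{u}} (x : X) (U₀ : X.Opens) (hx : x ∈ U₀) (hs : List (X.presheaf.stalk x)) :
    ∃ (U : X.Opens) (_ : IsAffineOpen U) (_ : U ≤ U₀) (hxU : x ∈ U) (hs' : List Γ(X, U)),
      hs'.map (X.presheaf.germ U x hxU) = hs := by
  induction hs with
  | nil =>
    obtain ⟨U, hU, hxU, hle⟩ := exists_isAffineOpen_mem_and_subset (U := U₀) hx
    exact ⟨U, hU, hle, hxU, [], rfl⟩
  | cons t ts ih =>
    obtain ⟨U₁, -, hle₁, hx₁, ts', rfl⟩ := ih
    obtain ⟨U₂, hx₂, s, rfl⟩ := TopCat.Presheaf.exists_germ_eq X.presheaf t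
    obtain ⟨U, hU, hxU, hle⟩ := exists_isAffineOpen_mem_and_subset (U := U₁ ⊓ U₂) (x := x) ⟨hx₁, hx₂⟩
    have h₁ : U ≤ U₁ := fun y hy => (hle hy).1
    have h₂ : U ≤ U₂ := fun y hy => (hle hy).2
    refine ⟨U, hU, h₁.trans hle₁, hxU,
      X.presheaf.map (homOfLE h₂).op s :: ts'.map (X.presheaf.map (homOfLE h₁).op), ?_⟩
    rw [List.map_cons, List.map_map]
    refine congrArg₂ List.cons (X.presheaf.germ_res_apply (homOfLE h₂) x hxU s) (List.map_congr_left fun a _ => ?_)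
    exact X.presheaf.germ_res_apply (homOfLE h₁) x hxU a

/-- Base change of a regular closed immersion with flat partial quotients. -/
theorem isRegularClosedImmersion_baseChange {Z Y S S' T Z' : Scheme.{u}} [IsAffine Y] (i : Z ⟶ Y) [IsClosedImmersion i]
    (p : Y ⟶ S) {W : S.Opens} (hW : IsAffineOpen W) (hle : (⊤ : Y.Opens) ≤ p ⁻¹ᵁ W) (l : List Γ(Y, ⊤))
    (hker : RingHom.ker (i.app ⊤).hom = Ideal.ofList l) (hwr : IsWeaklyRegular Γ(Y, ⊤) l)
    (hfl : letI := (p.appLE W ⊤ hle).hom.toAlgebra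
      ∀ j ≤ l.length, Module.Flat Γ(S, W) (Γ(Y, ⊤) ⧸ Ideal.ofList (l.take j)))
    (g : S' ⟶ S) (fst : T ⟶ Y) (snd : T ⟶ S') (H : IsPullback fst snd p g)
    (gZ : Z' ⟶ Z) (i' : Z' ⟶ T) (hsq : IsPullback gZ i' i fst) : Mor2.IsRegularClosedImmersion i' := by
  haveI : IsClosedImmersion i' := MorphismProperty.of_isPullback hsq inferInstance
  refine ⟨inferInstance, fun z => ?_⟩
  obtain ⟨W', hW', hzW', hW'le⟩ := exists_isAffineOpen_mem_and_subset (X := S') (x := snd (i' z)) (U := g ⁻¹ᵁ W)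
    (show g (snd (i' z)) ∈ W by
      rw [show g (snd (i' z)) = p (fst (i' z)) from (congrArg (fun k => k (i' z)) H.w).symm]
      exact hle trivial)
  let V : T.Opens := fst ⁻¹ᵁ ⊤ ⊓ snd ⁻¹ᵁ W'
  have hV : IsAffineOpen V := FlatH4.isAffineOpen_of_isPullback H (UY := V) hW'le hle rfl hW hW' (isAffineOpen_top Y)
  have hVle : V ≤ fst ⁻¹ᵁ ⊤ := inf_le_left
  have hVle' : V ≤ snd ⁻¹ᵁ W' := inf_le_right
  refine ⟨V, hV, ⟨trivial, hzW'⟩, l.map (fst.appLE ⊤ V hVle).hom, ?_⟩
  have hkeq : i'.ker.ideal ⟨V, hV⟩ = Ideal.ofList (l.map (fst.appLE ⊤ V hVle).hom) := by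
    rw [Scheme.Hom.ker_apply, CI2.ker_app_of_isPullback i fst i' gZ hsq (isAffineOpen_top Y) hV hVle, hker,
      Ideal.map_ofList]
  refine ⟨⟨?_, ?_⟩, hkeq⟩
  · letI : Algebra Γ(S, W) Γ(Y, ⊤) := (p.appLE W ⊤ hle).hom.toAlgebra
    letI : Algebra Γ(S, W) Γ(S', W') := (g.appLE W W' hW'le).hom.toAlgebra
    letI : Algebra Γ(Y, ⊤) Γ(T, V) := (fst.appLE ⊤ V hVle).hom.toAlgebra
    letI : Algebra Γ(S', W') Γ(T, V) := (snd.appLE W' V hVle').hom.toAlgebra
    letI : Algebra Γ(S, W) Γ(T, V) := ((fst.appLE ⊤ V hVle).hom.comp (p.appLE W ⊤ hle).hom).toAlgebra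
    haveI : IsScalarTower Γ(S, W) Γ(Y, ⊤) Γ(T, V) := IsScalarTower.of_algebraMap_eq fun _ => rfl
    have hpo := FlatH4.isPushout_sections H hW'le hle (UY := V) rfl hW hW' (isAffineOpen_top Y)
    haveI : IsScalarTower Γ(S, W) Γ(S', W') Γ(T, V) := IsScalarTower.of_algebraMap_eq fun r =>
      congrArg (fun k => k r) hpo.w
    haveI : Algebra.IsPushout Γ(S, W) Γ(S', W') Γ(Y, ⊤) Γ(T, V) :=
      CommRingCat.isPushout_iff_isPushout.1 hpo.flip
    exact isWeaklyRegular_pushout (R' := Γ(S', W')) l hfl hwr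
  · rw [smul_eq_mul, Ideal.mul_top, ← hkeq, Scheme.Hom.ker_apply]
    intro htop
    have h1 : (i'.app V).hom 1 = 0 := RingHom.mem_ker.1 (htop.symm ▸ Submodule.mem_top)
    rw [map_one] at h1
    have h2 := congrArg (Z'.presheaf.germ (i' ⁻¹ᵁ V) z ⟨trivial, hzW'⟩).hom h1
    rw [map_one, map_zero] at h2
    exact one_ne_zero h2

theorem exists_slice {X S : Scheme.{u}} (f : X ⟶ S) [LocallyOfFinitePresentation f] (x : X)
    (hflat : (f.stalkMap x).hom.Flat) (hs : List ↑(X.presheaf.stalk x))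
    (hreg : IsRegular (↑(X.presheaf.stalk x) ⧸ Ideal.map (f.stalkMap x).hom (IsLocalRing.maximalIdeal ↑(S.presheaf.stalk (f x))))
      (hs.map (Ideal.Quotient.mk (Ideal.map (f.stalkMap x).hom (IsLocalRing.maximalIdeal ↑(S.presheaf.stalk (f x))))))) :
    ∃ (U : X.Opens) (hU : IsAffineOpen U) (hx : x ∈ U) (hs' : List Γ(X, U)), hs'.map (X.presheaf.germ U x hx) = hs ∧
      Mor2.IsRegularClosedImmersion (Spec.map (CommRingCat.ofHom (Ideal.Quotient.mk (Ideal.ofList hs'))) ≫ hU.isoSpec.inv) ∧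
      x ∈ Set.range ⇑(Spec.map (CommRingCat.ofHom (Ideal.Quotient.mk (Ideal.ofList hs'))) ≫ hU.fromSpec) ∧
      Flat (Spec.map (CommRingCat.ofHom (Ideal.Quotient.mk (Ideal.ofList hs'))) ≫ hU.fromSpec ≫ f) ∧
      LocallyOfFinitePresentation (Spec.map (CommRingCat.ofHom (Ideal.Quotient.mk (Ideal.ofList hs'))) ≫ hU.fromSpec ≫ f) ∧
      ∀ (S' : Scheme.{u}) (g : S' ⟶ S), Mor2.IsRegularClosedImmersion
        (pullback.map (Spec.map (CommRingCat.ofHom (Ideal.Quotient.mk (Ideal.ofList hs'))) ≫ hU.isoSpec.inv ≫ U.ι ≫ f) g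
          (U.ι ≫ f) g (Spec.map (CommRingCat.ofHom (Ideal.Quotient.mk (Ideal.ofList hs'))) ≫ hU.isoSpec.inv) (𝟙 S') (𝟙 S)
          (by simp) (by simp)) := by
  classical
  obtain ⟨W, hW, hxW, -⟩ := exists_isAffineOpen_mem_and_subset (X := S) (x := f x) (U := ⊤) trivial
  let O : X.Opens := ⟨{y | (f.stalkMap y).hom.Flat}, FlatH4.isOpen_flatLocus f⟩
  obtain ⟨U₁, hU₁, hU₁le, hx₁, hs₁, hgerm⟩ := exists_lift_germs x (f ⁻¹ᵁ W ⊓ O) ⟨hxW, hflat⟩ hs
  have h₁W : U₁ ≤ f ⁻¹ᵁ W := fun y hy => (hU₁le hy).1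
  let R := Γ(S, W)
  let A := Γ(X, U₁)
  letI : Algebra R A := (f.appLE W U₁ h₁W).hom.toAlgebra
  haveI : Algebra.FinitePresentation R A := f.finitePresentation_appLE hW hU₁ h₁W
  have hprime : ∀ P : PrimeSpectrum A, ∀ hy : hU₁.fromSpec P ∈ U₁, hU₁.primeIdealOf ⟨hU₁.fromSpec P, hy⟩ = P :=
    fun P hy => hU₁.fromSpec.isOpenEmbedding.injective (hU₁.fromSpec_primeIdealOf ⟨_, hy⟩)
  have hmemU : ∀ P : PrimeSpectrum A, hU₁.fromSpec P ∈ U₁ := fun P => hU₁.range_fromSpec.le ⟨P, rfl⟩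
  haveI : Module.Flat R A := FlatH4.flat_of_localized_maximal_algebra (S := A) fun P _ => by
    have h := (FlatH4.flat_stalkMap_iff f W hW U₁ hU₁ h₁W (hmemU ⟨P, inferInstance⟩)).1 (hU₁le (hmemU _)).2
    rwa [hprime] at h
  let q := (hU₁.primeIdealOf ⟨x, hx₁⟩).asIdeal
  letI := X.presheaf.algebra_section_stalk (U := U₁) ⟨x, hx₁⟩
  haveI : IsLocalization.AtPrime (X.presheaf.stalk x) q := hU₁.isLocalization_stalk ⟨x, hx₁⟩
  let St := X.presheaf.stalk x
  have hN : Ideal.map (f.stalkMap x).hom (IsLocalRing.maximalIdeal ↑(S.presheaf.stalk (f x))) =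
      ((q.comap (algebraMap R A)).map (algebraMap R A)).map (algebraMap A St) :=
    CMSlice4.map_maximalIdeal_stalkMap f hW hU₁ h₁W hx₁
  rw [hN] at hreg
  let N : Ideal St := ((q.comap (algebraMap R A)).map (algebraMap R A)).map (algebraMap A St)
  let τ : A →+* St ⧸ N := (Ideal.Quotient.mk N).comp (algebraMap A St)
  have hlist : hs.map (Ideal.Quotient.mk N) = hs₁.map τ := by
    rw [← hgerm, List.map_map]; rfl
  rw [hlist] at hreg
  have hfib := fibReg_of_isWeaklyRegular q St hs₁ hreg.toIsWeaklyRegular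
  have hq : Ideal.ofList hs₁ ≤ q := by
    refine Ideal.span_le.2 fun a ha => by_contra fun hna => hreg.2 ?_
    rw [smul_eq_mul, Ideal.mul_top]
    have hmem : τ a ∈ Ideal.ofList (hs₁.map τ) := Ideal.subset_span (List.mem_map.2 ⟨a, ha, rfl⟩)
    exact (Ideal.eq_top_of_isUnit_mem _ hmem
      ((IsLocalization.map_units St (⟨a, hna⟩ : q.primeCompl)).map (Ideal.Quotient.mk N))).symm
  obtain ⟨G, hG, hdata⟩ := exists_regular_flat_away q hs₁ hq hfib
  let U := X.basicOpen G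
  have hU : IsAffineOpen U := hU₁.basicOpen G
  have hUU₁ : U ≤ U₁ := X.basicOpen_le G
  have hUW : U ≤ f ⁻¹ᵁ W := hUU₁.trans h₁W
  have hxU : x ∈ U := by
    rw [X.mem_basicOpen _ _ hx₁]
    exact IsLocalization.map_units St (⟨G, hG⟩ : q.primeCompl)
  let B := Γ(X, U)
  letI : Algebra A B := (X.presheaf.map (homOfLE hUU₁).op).hom.toAlgebra
  haveI : IsLocalization.Away G B := hU₁.isLocalization_basicOpen G
  letI : Algebra R B := (f.appLE W U hUW).hom.toAlgebra
  haveI : IsScalarTower R A B := IsScalarTower.of_algebraMap_eq fun r =>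
    congrArg (fun k => k r) (Scheme.Hom.appLE_map f h₁W (homOfLE hUU₁).op).symm
  haveI : Algebra.FinitePresentation R B := f.finitePresentation_appLE hW hU hUW
  let hs' := hs₁.map (algebraMap A B)
  obtain ⟨hwr, hfl⟩ := hdata G dvd_rfl B
  let I := Ideal.ofList hs'
  have hgerm' : hs'.map (X.presheaf.germ U x hxU) = hs := by
    rw [← hgerm, List.map_map]
    exact List.map_congr_left fun a _ => X.presheaf.germ_res_apply (homOfLE hUU₁) x hxU a
  have hqU : I ≤ (hU.primeIdealOf ⟨x, hxU⟩).asIdeal := by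
    refine Ideal.span_le.2 fun b hb => ?_
    obtain ⟨a, ha, rfl⟩ := List.mem_map.1 hb
    letI := X.presheaf.algebra_section_stalk (U := U) ⟨x, hxU⟩
    haveI : IsLocalization.AtPrime (X.presheaf.stalk x) (hU.primeIdealOf ⟨x, hxU⟩).asIdeal :=
      hU.isLocalization_stalk ⟨x, hxU⟩
    by_contra hna
    have h1 := IsLocalization.map_units (X.presheaf.stalk x)
      (⟨algebraMap A B a, hna⟩ : (hU.primeIdealOf ⟨x, hxU⟩).asIdeal.primeCompl)
    rw [show algebraMap B (X.presheaf.stalk x) (algebraMap A B a) = algebraMap A (X.presheaf.stalk x) a from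
      X.presheaf.germ_res_apply (homOfLE hUU₁) x hxU a] at h1
    exact (IsLocalization.AtPrime.isUnit_to_map_iff St q a).1 h1 (hq (Ideal.subset_span ha))
  let C := B ⧸ I
  let mk : B →+* C := Ideal.Quotient.mk I
  haveI : IsClosedImmersion (Spec.map (CommRingCat.ofHom mk)) :=
    IsClosedImmersion.spec_of_surjective _ Ideal.Quotient.mk_surjective
  let i : Spec (CommRingCat.of C) ⟶ U.toScheme := Spec.map (CommRingCat.ofHom mk) ≫ hU.isoSpec.inv
  haveI : IsAffine U.toScheme := hU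
  let ε : B ≃+* Γ(U.toScheme, ⊤) := U.topIso.commRingCatIsoToRingEquiv.symm
  let l := hs'.map ε
  have hker : RingHom.ker (i.app ⊤).hom = Ideal.ofList l := by
    have happ : i.appTop = U.topIso.hom ≫ CommRingCat.ofHom mk ≫ (Scheme.ΓSpecIso (CommRingCat.of C)).inv := by
      show (Spec.map (CommRingCat.ofHom mk) ≫ hU.isoSpec.inv).appTop = _
      rw [Scheme.Hom.comp_appTop, IsAffineOpen.isoSpec_inv_appTop, Category.assoc, Scheme.ΓSpecIso_inv_naturality]
    rw [show l = hs'.map (ε : B →+* Γ(U.toScheme, ⊤)) from rfl, ← Ideal.map_ofList, show Ideal.ofList hs' = RingHom.ker mk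
      from (Ideal.mk_ker).symm]
    ext b
    show (i.appTop).hom b = 0 ↔ b ∈ _
    rw [happ]
    show (Scheme.ΓSpecIso (CommRingCat.of C)).inv (mk (U.topIso.hom b)) = 0 ↔
      b ∈ (RingHom.ker mk).map (ε : B →+* Γ(U.toScheme, ⊤))
    rw [map_eq_zero_iff _ (ConcreteCategory.bijective_of_isIso (Scheme.ΓSpecIso (CommRingCat.of C)).inv).1]
    show _ ↔ b ∈ Ideal.map ε _
    rw [← Ideal.comap_symm]
    rfl
  have hwrl : IsWeaklyRegular Γ(U.toScheme, ⊤) l :=
    (AddEquiv.isWeaklyRegular_congr (e := ε.toAddEquiv)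
      (List.forall₂_map_right_iff.2 (List.forall₂_same.2 fun r _ x => map_mul ε r x))).1 hwr
  refine ⟨U, hU, hxU, hs', hgerm', ⟨inferInstance, fun z => ⟨⊤, isAffineOpen_top _, trivial, l, ⟨hwrl, ?_⟩, ?_⟩⟩,
    ?_, ?_, ?_, fun S' g => ?_⟩
  · rw [smul_eq_mul, Ideal.mul_top, ← hker]
    intro htop
    have h1 : (i.app ⊤).hom 1 = 0 := RingHom.mem_ker.1 (htop.symm ▸ Submodule.mem_top)
    rw [map_one] at h1
    have h2 := congrArg ((Spec (CommRingCat.of C)).presheaf.germ (i ⁻¹ᵁ ⊤) z trivial).hom h1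
    rw [map_one, map_zero] at h2
    exact one_ne_zero h2
  · rw [Scheme.Hom.ker_apply]; exact hker
  · haveI : ((hU.primeIdealOf ⟨x, hxU⟩).asIdeal.map mk).IsPrime :=
      Ideal.map_isPrime_of_surjective Ideal.Quotient.mk_surjective (by rwa [Ideal.mk_ker])
    refine ⟨⟨(hU.primeIdealOf ⟨x, hxU⟩).asIdeal.map mk, inferInstance⟩, ?_⟩
    refine Eq.trans ?_ (hU.fromSpec_primeIdealOf ⟨x, hxU⟩)
    show hU.fromSpec ((⟨_, inferInstance⟩ : PrimeSpectrum C).comap mk) = hU.fromSpec _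
    refine congrArg hU.fromSpec (PrimeSpectrum.ext ?_)
    rw [PrimeSpectrum.comap_asIdeal, Ideal.comap_map_of_surjective mk Ideal.Quotient.mk_surjective,
      ← RingHom.ker_eq_comap_bot, Ideal.mk_ker, sup_eq_left.mpr hqU]
  · have hflC : Module.Flat R C := by
      have := hfl hs₁.length le_rfl
      rwa [← List.map_take, List.take_length] at this
    rw [← IsAffineOpen.SpecMap_appLE_fromSpec f hW hU hUW, ← Category.assoc, ← Spec.map_comp]
    haveI : Flat (Spec.map (f.appLE W U hUW ≫ CommRingCat.ofHom mk)) :=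
      (HasRingHomProperty.Spec_iff (P := @Flat)).2 (RingHom.flat_algebraMap_iff.2 hflC)
    infer_instance
  · haveI : Algebra.FinitePresentation R C := Algebra.FinitePresentation.quotient
      ⟨hs'.toFinset, by rw [List.coe_toFinset]⟩
    rw [← IsAffineOpen.SpecMap_appLE_fromSpec f hW hU hUW, ← Category.assoc, ← Spec.map_comp]
    haveI : LocallyOfFinitePresentation (Spec.map (f.appLE W U hUW ≫ CommRingCat.ofHom mk)) :=
      (HasRingHomProperty.Spec_iff (P := @LocallyOfFinitePresentation)).2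
        ((RingHom.finitePresentation_algebraMap (A := R) (B := C)).2 inferInstance)
    infer_instance
  · let p : U.toScheme ⟶ S := U.ι ≫ f
    have hle : (⊤ : U.toScheme.Opens) ≤ p ⁻¹ᵁ W := fun y _ => hUW y.2
    have hfl' : letI := (p.appLE W ⊤ hle).hom.toAlgebra
        ∀ j ≤ l.length, Module.Flat R (Γ(U.toScheme, ⊤) ⧸ Ideal.ofList (l.take j)) := by
      letI := (p.appLE W ⊤ hle).hom.toAlgebra
      intro j hj
      haveI := hfl j (by simpa [l, hs'] using hj)
      have hεR : ∀ r : R, ε (algebraMap R B r) = algebraMap R Γ(U.toScheme, ⊤) r := fun r => by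
        show U.topIso.inv (f.appLE W U hUW r) = (U.ι ≫ f).appLE W ⊤ hle r
        rw [← CommRingCat.comp_apply]
        congr 2
        rw [← Scheme.Hom.appLE_comp_appLE U.ι f W U ⊤ hUW (fun y _ => y.2)]
        exact congrArg (f.appLE W U hUW ≫ ·) (U.ι_appLE U ⊤ _).symm
      let εR : B ≃ₐ[R] Γ(U.toScheme, ⊤) := AlgEquiv.ofRingEquiv (f := ε) hεR
      refine Module.Flat.of_linearEquiv (Ideal.quotientEquivAlg (Ideal.ofList (hs'.take j))
        (Ideal.ofList (l.take j)) εR ?_).symm.toLinearEquiv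
      rw [Ideal.map_ofList, ← List.map_take]
      rfl
    have H : IsPullback (pullback.fst p g) (pullback.snd p g) p g := IsPullback.of_hasPullback p g
    refine isRegularClosedImmersion_baseChange i p hW hle l hker hwrl hfl' g _ _ H
      (pullback.fst _ _) _ ?_
    refine IsPullback.of_bot ?_ (pullback.lift_fst _ _ _).symm H
    rw [pullback.lift_snd, Category.comp_id, Category.assoc]
    exact IsPullback.of_hasPullback _ g

end Groth.Agent.Slice4
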